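import Groth.Agent.Lib.GenusZeroFam2.Props
import Groth.Agent.Lib.GrpSchField.SepPoint
import Groth.Agent.Lib.MagnetGr25.SmoothLift
import Groth.Agent.Lib.ConnH0.Basic
import Groth.Agent.Lib.CurveMult.OmegaField
import Mathlib.RingTheory.Artinian.Ring

/-! # Families of genus zero over Artinian local rings -/

set_option autoImplicit false
set_option linter.all false
set_option backward.isDefEq.respectTransparency false
set_option maxHeartbeats 1000000

universe u

open CategoryTheory CategoryTheory.Limits AlgebraicGeometry TopologicalSpace Opposite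

noncomputable section

namespace GrothLib.GenusZeroFam2

open IsLocalRing (ResidueField residue maximalIdeal)

/-- A point of the closed fibre of a smooth scheme over an Artinian local ring lifts. -/
theorem exists_section_artinian {C : Type u} [CommRing C] [IsArtinianRing C] [IsLocalRing C] {X : Scheme.{u}}
    (f : X ⟶ Spec (CommRingCat.of C)) [Smooth f] (x : Spec (CommRingCat.of (ResidueField C)) ⟶ X)
    (hx : x ≫ f = Spec.map (CommRingCat.ofHom (residue C))) :
    ∃ σ : Spec (CommRingCat.of C) ⟶ X, σ ≫ f = 𝟙 _ := by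
  let I := maximalIdeal C
  have key : ∀ n, ∃ s : Spec (CommRingCat.of (C ⧸ I ^ (n + 1))) ⟶ X,
      s ≫ f = Spec.map (CommRingCat.ofHom (Ideal.Quotient.mk (I ^ (n + 1)))) := by
    intro n
    induction n with
    | zero =>
      let q : ResidueField C →+* C ⧸ I ^ (0 + 1) := Ideal.Quotient.factor (by simp [I])
      refine ⟨Spec.map (CommRingCat.ofHom q) ≫ x, ?_⟩
      rw [Category.assoc, hx, ← Spec.map_comp]
      rfl
    | succ n ih =>
      obtain ⟨s, hs⟩ := ih
      let q : C ⧸ I ^ (n + 1 + 1) →+* C ⧸ I ^ (n + 1) := Ideal.Quotient.factor (Ideal.pow_le_pow_right (Nat.le_succ _))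
      have hker : RingHom.ker q ^ 2 = ⊥ := by
        rw [Ideal.Quotient.factor_ker, ← Ideal.map_pow, Ideal.map_eq_bot_iff_le_ker, Ideal.mk_ker, ← pow_mul]
        exact Ideal.pow_le_pow_right (by omega)
      obtain ⟨L, -, hL⟩ := GrothLib.MagnetGr.exists_lift_of_smooth f q (Ideal.Quotient.factor_surjective _) hker s
        (Spec.map (CommRingCat.ofHom (Ideal.Quotient.mk (I ^ (n + 1 + 1))))) (by
          rw [hs, ← Spec.map_comp]
          rfl)
      exact ⟨L, hL⟩
  obtain ⟨N, hN⟩ : IsNilpotent I := IsArtinianRing.isNilpotent_jacobson_bot (R := C) |> fun h => by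
    rwa [IsLocalRing.jacobson_eq_maximalIdeal ⊥ bot_ne_top] at h
  obtain ⟨s, hs⟩ := key N
  have hbot : I ^ (N + 1) ≤ ⊥ := by
    rw [pow_succ, hN, Ideal.zero_eq_bot, Ideal.bot_mul]
  let e : C ⧸ I ^ (N + 1) →+* C := Ideal.Quotient.lift _ (RingHom.id C) fun a ha => by simpa using hbot ha
  refine ⟨Spec.map (CommRingCat.ofHom e) ≫ s, ?_⟩
  rw [Category.assoc, hs, ← Spec.map_comp, ← CommRingCat.ofHom_comp]
  exact (congrArg (fun r => Spec.map (CommRingCat.ofHom r)) (show e.comp (Ideal.Quotient.mk _) = RingHom.id C from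
    RingHom.ext fun a => rfl)).trans (by simp)

/-- Geometric fibres from the closed fibre. -/
theorem geometric_fibres {C : Type u} [CommRing C] [IsArtinianRing C] [IsLocalRing C]
    [IsAlgClosed (ResidueField C)] {X : Scheme.{u}} (f : X ⟶ Spec (CommRingCat.of C)) [Smooth f] [IsProper f]
    (hint : IsIntegral (pullback f (Spec.map (CommRingCat.ofHom (residue C)))))
    (hdim : topologicalKrullDim ↥(pullback f (Spec.map (CommRingCat.ofHom (residue C)))) = 1)
    (hg : @Curv2.genus (ResidueField C) _ (pullback f (Spec.map (CommRingCat.ofHom (residue C))))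
        ⟨pullback.snd f (Spec.map (CommRingCat.ofHom (residue C)))⟩ = 0)
    (K : Type u) [Field K] [IsAlgClosed K] (x : Spec (CommRingCat.of K) ⟶ Spec (CommRingCat.of C)) :
    IsIntegral (pullback f x) ∧ topologicalKrullDim ↥(pullback f x) = 1 ∧
      @Curv2.genus K _ (pullback f x) ⟨pullback.snd f x⟩ = 0 := by
  obtain ⟨φ, rfl⟩ : ∃ φ : C →+* K, x = Spec.map (CommRingCat.ofHom φ) :=
    ⟨(Spec.preimage x).hom, by simp⟩
  haveI : (RingHom.ker φ).IsPrime := RingHom.ker_isPrime φ
  have hker : maximalIdeal C ≤ RingHom.ker φ :=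
    ((IsLocalRing.eq_maximalIdeal (inferInstance : (RingHom.ker φ).IsMaximal))).ge
  let ψ : ResidueField C →+* K := Ideal.Quotient.lift _ φ fun a ha => hker ha
  let r := Spec.map (CommRingCat.ofHom (residue C))
  have hfac : Spec.map (CommRingCat.ofHom ψ) ≫ r = Spec.map (CommRingCat.ofHom φ) := by
    rw [← Spec.map_comp, ← CommRingCat.ofHom_comp]
    rfl
  let Z := pullback f r
  let Z' := pullback f (Spec.map (CommRingCat.ofHom φ))
  letI : Z.Over (Spec (CommRingCat.of (ResidueField C))) := ⟨pullback.snd f r⟩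
  letI : Z'.Over (Spec (CommRingCat.of K)) := ⟨pullback.snd f _⟩
  haveI : IsProper (Z ↘ Spec (CommRingCat.of (ResidueField C))) := MorphismProperty.pullback_snd f r inferInstance
  haveI : IsProper (Z' ↘ Spec (CommRingCat.of K)) := MorphismProperty.pullback_snd f (Spec.map (CommRingCat.ofHom φ)) inferInstance
  haveI : Smooth (Z' ↘ Spec (CommRingCat.of K)) := inferInstanceAs (Smooth (pullback.snd f (Spec.map (CommRingCat.ofHom φ))))
  let l : Z' ⟶ Z := pullback.lift (pullback.fst f _) (pullback.snd f _ ≫ Spec.map (CommRingCat.ofHom ψ))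
    (by rw [Category.assoc, hfac, pullback.condition])
  have H : IsPullback l (Z' ↘ Spec (CommRingCat.of K)) (Z ↘ Spec (CommRingCat.of (ResidueField C)))
      (Spec.map (CommRingCat.ofHom ψ)) := by
    refine IsPullback.of_right ?_ (pullback.lift_snd _ _ _) (IsPullback.of_hasPullback f r)
    rw [pullback.lift_fst, hfac]
    exact IsPullback.of_hasPullback f (Spec.map (CommRingCat.ofHom φ))
  haveI := hint
  have h0 : Module.finrank K (Coh.HH Z' (Coh.structureModule Z') 0) = 1 :=
    (CurveMult.finrank_HH_structure_baseChange ψ l H 0).trans (ConnH0.finrank_H0_eq_one (ResidueField C) (X := Z))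
  haveI := CurveMult.connectedSpace_of_finrank_H0 K h0
  refine ⟨Euler.isIntegral_of_smooth_connected K (Z' ↘ Spec (CommRingCat.of K)), ?_,
    (CurveMult.finrank_HH_structure_baseChange ψ l H 1).trans hg⟩
  letI : Algebra (ResidueField C) K := ψ.toAlgebra
  have h := CurveLocus.topologicalKrullDim_pullback (k := (ResidueField C)) (Z ↘ Spec (CommRingCat.of (ResidueField C))) K
  rw [← hdim, ← h]
  exact (Scheme.homeoOfIso (H.flip.isoPullback)).isHomeomorph.topologicalKrullDim_eq

/-- A genus zero family over an Artinian local ring with algebraically closed residue field is the line. -/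
theorem artinian_projSpace {C : Type u} [CommRing C] [IsArtinianRing C] [IsLocalRing C]
    [IsAlgClosed (ResidueField C)] {X : Scheme.{u}} (f : X ⟶ Spec (CommRingCat.of C)) [Smooth f] [IsProper f]
    (hint : IsIntegral (pullback f (Spec.map (CommRingCat.ofHom (residue C)))))
    (hdim : topologicalKrullDim ↥(pullback f (Spec.map (CommRingCat.ofHom (residue C)))) = 1)
    (hg : @Curv2.genus (ResidueField C) _ (pullback f (Spec.map (CommRingCat.ofHom (residue C))))
        ⟨pullback.snd f (Spec.map (CommRingCat.ofHom (residue C)))⟩ = 0) :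
    ∃ e : X ≅ CohB1.ProjSpace 1 C, e.hom ≫ CohB1.ProjSpace.toSpec 1 C = f := by
  let r := Spec.map (CommRingCat.ofHom (residue C))
  haveI := hint
  obtain ⟨s, hs⟩ := GrpSchField.exists_section_of_smooth (pullback.snd f r)
  obtain ⟨σ, hσ⟩ := exists_section_artinian f (s ≫ pullback.fst f r)
    (by rw [Category.assoc, pullback.condition, ← Category.assoc, hs, Category.id_comp])
  obtain ⟨hgc, hd, hg'⟩ := family_props f (geometric_fibres f hint hdim hg)
  haveI := hgc
  have hI : PicF.IsInvertible (ClSub.idealMod σ.ker) :=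
    IdealModSec.isInvertible_of_isEffCartier (SmCurveFam.isEffCartier_section f hd σ hσ)
  obtain ⟨L, hL, hcls⟩ := LefPic7.exists_rep ((Cube.clsMod hI)⁻¹)
  have hinv : ClSub.IsInverseOf L (ClSub.idealMod σ.ker) :=
    (Cube.clsMod_eq_one_iff (Ample.isInvertible_tensorMod hL hI)).1
      ((Cube.clsMod_tensorMod hL hI).trans (by rw [hcls, inv_mul_cancel]))
  obtain ⟨E, q, hE, hP⟩ := Sect28.exists_bundle_of_deg_one f hd hg' hL fun y =>
    SmCurveFam.deg_fibre_eq_one f hd σ hσ hI hL hinv y
  obtain ⟨U, hs', ⟨φ⟩⟩ := hE (IsLocalRing.closedPoint C)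
  have hU : U = ⊤ := (IsLocalRing.closedPoint_mem_iff U).1 hs'
  let i : Spec (CommRingCat.of C) ⟶ Spec (CommRingCat.of C) := 𝟙 _
  let j : Spec (CommRingCat.of C) ⟶ (U : Scheme.{u}) := IsOpenImmersion.lift U.ι i
    (by rw [Scheme.Opens.range_ι, hU]; exact fun _ _ => trivial)
  have hj : j ≫ U.ι = i := IsOpenImmersion.lift_fac _ _ _
  let ψ : (Scheme.Modules.pullback i).obj E ≅ FlatMod.freeMod (Spec (CommRingCat.of C)) 2 :=
    (Scheme.Modules.pullbackCongr hj.symm).app E ≪≫ ((Scheme.Modules.pullbackComp j U.ι).app E).symm ≪≫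
      (Scheme.Modules.pullback j).mapIso (((Scheme.Modules.restrictFunctorIsoPullback U.ι).app E).symm ≪≫ φ) ≪≫
      OX.pullFreeModIso j 2
  obtain ⟨e, he⟩ := exists_iso_projSpace_restrict 1 hP i ψ
  refine ⟨(asIso (pullback.fst f i)).symm ≪≫ e, ?_⟩
  rw [Iso.trans_hom, Category.assoc, he, Iso.symm_hom, asIso_inv, IsIso.inv_comp_eq]
  exact ((pullback.condition (f := f) (g := i)).trans (Category.comp_id _)).symm

end GrothLib.GenusZeroFam2
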