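import Groth.Agent.Lib.GenusZeroFam2.Artinian
import Groth.Agent.Lib.ProjIso26.Basic
import Groth.Agent.Lib.Chow.Prod
import Groth.Prelude.Def_ModFun

/-! # The coarse moduli space of curves of genus zero -/

set_option autoImplicit false
set_option linter.all false
set_option backward.isDefEq.respectTransparency false
set_option maxHeartbeats 1000000

universe u

open CategoryTheory CategoryTheory.Limits AlgebraicGeometry TopologicalSpace Opposite

noncomputable section

namespace GrothLib.GenusZeroFam2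

/-- Projective space commutes with a change of the base ring. -/
theorem exists_iso_pullback_projSpace (n : ℕ) {A R : Type u} [CommRing A] [CommRing R]
    (g : Spec (CommRingCat.of R) ⟶ Spec (CommRingCat.of A)) :
    ∃ e : CohB1.ProjSpace n R ≅ pullback (CohB1.ProjSpace.toSpec n A) g,
      e.hom ≫ pullback.snd _ _ = CohB1.ProjSpace.toSpec n R := by
  haveI := ProjIso26.isIso_toProjSpace n A
  haveI := ProjIso26.isIso_toProjSpace n R
  let p := CohB1.ProjSpace.toSpec n (ULift.{u} ℤ)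
  let sA := specULiftZIsTerminal.from (Spec (CommRingCat.of A))
  let sR := specULiftZIsTerminal.from (Spec (CommRingCat.of R))
  have hA : IsPullback (inv (Ample.ProjMap.toProjSpace n A) ≫ pullback.fst p sA) (CohB1.ProjSpace.toSpec n A) p sA := by
    refine IsPullback.of_iso_pullback ⟨specULiftZIsTerminal.hom_ext _ _⟩ (asIso (Ample.ProjMap.toProjSpace n A)).symm
      (by simp) ?_
    rw [Iso.symm_hom, asIso_inv, IsIso.inv_comp_eq, Ample.ProjMap.toProjSpace_toSpec]
    rfl
  have h2 := (IsPullback.of_hasPullback (CohB1.ProjSpace.toSpec n A) g).paste_horiz hA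
  rw [show g ≫ sA = sR from specULiftZIsTerminal.hom_ext _ _] at h2
  refine ⟨(asIso (Ample.ProjMap.toProjSpace n R)).symm ≪≫ h2.isoPullback.symm, ?_⟩
  rw [Iso.trans_hom, Category.assoc, Iso.symm_hom, Iso.symm_hom, asIso_inv, IsIso.inv_comp_eq,
    Ample.ProjMap.toProjSpace_toSpec, h2.isoPullback_inv_snd]
  rfl

open ModFun in
/-- The geometric fibres of a curve of genus zero. -/
theorem fibres_of_isCurveOfGenus {C T : Scheme.{u}} {p : C ⟶ T} (h : IsCurveOfGenus 0 p)
    (K : Type u) [Field K] [IsAlgClosed K] (x : Spec (CommRingCat.of K) ⟶ T) :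
    IsIntegral (pullback p x) ∧ topologicalKrullDim ↥(pullback p x) = 1 ∧
      @Curv2.genus K _ (pullback p x) ⟨pullback.snd p x⟩ = 0 := by
  obtain ⟨hs, hp, hi, hf⟩ := h
  obtain ⟨h1, h2⟩ := hf K x (pullback p x) (pullback.fst p x) (pullback.snd p x) (IsPullback.of_hasPullback p x)
  haveI : IrreducibleSpace ↥(pullback p x) := hi.1 x (pullback.fst p x) (pullback.snd p x) (IsPullback.of_hasPullback p x)
  haveI : Smooth (pullback.snd p x) := MorphismProperty.pullback_snd p x hs
  haveI : IsProper (pullback.snd p x) := MorphismProperty.pullback_snd p x hp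
  letI : (pullback p x).Over (Spec (CommRingCat.of K)) := ⟨pullback.snd p x⟩
  haveI : Smooth (pullback p x ↘ Spec (CommRingCat.of K)) := ‹Smooth (pullback.snd p x)›
  haveI : IsProper (pullback p x ↘ Spec (CommRingCat.of K)) := ‹IsProper (pullback.snd p x)›
  exact ⟨Euler.isIntegral_of_smooth_connected K (pullback p x ↘ Spec (CommRingCat.of K)), h1, h2⟩

open ModFun in
/-- Curves of genus zero are stable under base change. -/
theorem isCurveOfGenus_baseChange {C T T' : Scheme.{u}} {p : C ⟶ T} (g : T' ⟶ T) (h : IsCurveOfGenus 0 p) :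
    IsCurveOfGenus 0 (pullback.snd p g) := by
  obtain ⟨hs, hp, hi, hf⟩ := h
  refine ⟨MorphismProperty.pullback_snd p g hs, MorphismProperty.pullback_snd p g hp,
    MorphismProperty.pullback_snd (P := @GeometricallyIrreducible) p g hi, fun Ω _ _ t X i q H => ?_⟩
  exact hf Ω (t ≫ g) X (i ≫ pullback.fst p g) q (H.paste_horiz (IsPullback.of_hasPullback p g))

open ModFun in
/-- The line over a field is a curve of genus zero. -/
theorem isCurveOfGenus_line (k : Type u) [Field k] : IsCurveOfGenus 0 (CohB1.ProjSpace.toSpec 1 k) := by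
  have key : ∀ (L : Type u) [Field L] (t : Spec (CommRingCat.of L) ⟶ Spec (CommRingCat.of k)) {X : Scheme.{u}}
      {i : X ⟶ CohB1.ProjSpace 1 k} {q : X ⟶ Spec (CommRingCat.of L)}, IsPullback i q (CohB1.ProjSpace.toSpec 1 k) t →
      ∃ e : X ≅ CohB1.ProjSpace 1 L, e.hom ≫ CohB1.ProjSpace.toSpec 1 L = q := fun L _ t X i q H => by
    obtain ⟨e, he⟩ := exists_iso_pullback_projSpace 1 t
    refine ⟨H.isoPullback ≪≫ e.symm, ?_⟩
    rw [Iso.trans_hom, Category.assoc, Iso.symm_hom, ← he, Iso.inv_hom_id_assoc, H.isoPullback_hom_snd]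
  haveI : Smooth (CohB1.ProjSpace.toSpec 1 k) := CurveMult.smooth_toSpec 1 k
  haveI := Chow.isProper_toSpec 1 k
  refine ⟨inferInstance, inferInstance, ⟨fun L _ t X i q H => ?_⟩, fun Ω _ _ t X i q H => ?_⟩
  · obtain ⟨e, -⟩ := key L t H
    haveI := ProjDim.isIntegral_proj L 1
    exact e.inv.homeomorph.surjective.preirreducibleSpace e.inv.continuous |> fun h => by
      haveI := h
      haveI : Nonempty X := ⟨e.inv (genericPoint (CohB1.ProjSpace 1 L))⟩
      exact ⟨inferInstance⟩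
  · obtain ⟨e, he⟩ := key Ω t H
    refine ⟨(Scheme.homeoOfIso e).isHomeomorph.topologicalKrullDim_eq.trans (CurveMult.P1Split.dim_P1 Ω), ?_⟩
    letI : X.Over (Spec (CommRingCat.of Ω)) := ⟨q⟩
    haveI := PlaneBlow28.subsingleton_H1_of_iso_P1 Ω (F := X) e
    exact Module.finrank_zero_of_subsingleton

open ModFun in
/-- A curve of genus zero over an algebraically closed field is the line. -/
theorem exists_iso_line (Ω : Type u) [Field Ω] [IsAlgClosed Ω] {C : Scheme.{u}} (p : C ⟶ Spec (CommRingCat.of Ω))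
    (h : IsCurveOfGenus 0 p) :
    ∃ e : C ≅ CohB1.ProjSpace 1 Ω, e.hom ≫ CohB1.ProjSpace.toSpec 1 Ω = p := by
  haveI : IsAlgClosed (IsLocalRing.ResidueField Ω) := IsAlgClosed.of_ringEquiv Ω _
    (RingEquiv.ofBijective (IsLocalRing.residue Ω) ⟨RingHom.injective _, IsLocalRing.residue_surjective⟩)
  haveI := h.1
  haveI := h.2.1
  obtain ⟨h1, h2, h3⟩ := fibres_of_isCurveOfGenus h (IsLocalRing.ResidueField Ω)
    (Spec.map (CommRingCat.ofHom (IsLocalRing.residue Ω)))
  exact artinian_projSpace p h1 h2 h3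

open ModFun in
/-- Over a finite type base, an invariant of curves of genus zero is constant. -/
theorem app_eq (k : Type u) [Field k] {N : Over (Spec (CommRingCat.of k))}
    (ψ : (Mg (Spec (CommRingCat.of k)) 0).Hom
      (fun T : Over (Spec (CommRingCat.of k)) => LocallyOfFiniteType T.hom ∧ QuasiCompact T.hom) N)
    (T : Over (Spec (CommRingCat.of k))) (x : Over T.left) (hT : LocallyOfFiniteType T.hom ∧ QuasiCompact T.hom)
    (hx : (Mg (Spec (CommRingCat.of k)) 0).ok T x) (hT₀ : LocallyOfFiniteType (𝟙 (Spec (CommRingCat.of k))) ∧ QuasiCompact (𝟙 (Spec (CommRingCat.of k))))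
    (hx₀ : (Mg (Spec (CommRingCat.of k)) 0).ok (Over.mk (𝟙 _)) (Over.mk (CohB1.ProjSpace.toSpec 1 k))) :
    (ψ.app T x hT hx).left = T.hom ≫ (ψ.app (Over.mk (𝟙 _)) (Over.mk (CohB1.ProjSpace.toSpec 1 k)) hT₀ hx₀).left := by
  have hc := hx.2
  haveI := hc.1
  haveI := hc.2.1
  haveI := hT.1
  haveI : Surjective x.hom := ⟨fun t => by
    let y := AlgebraicClosure (T.left.residueField t)
    obtain ⟨hint, -, -⟩ := fibres_of_isCurveOfGenus hc y (Red.geomPt t)
    haveI := hint
    let z := genericPoint ↥(pullback x.hom (Red.geomPt t))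
    refine ⟨(pullback.fst x.hom (Red.geomPt t)) z, ?_⟩
    rw [← Scheme.Hom.comp_apply, pullback.condition, Scheme.Hom.comp_apply]
    show (Spec.map _ ≫ T.left.fromSpecResidueField t) _ = t
    rw [Scheme.Hom.comp_apply, T.left.fromSpecResidueField_apply]⟩
  haveI : IsLocallyNoetherian x.left := LocallyOfFiniteType.isLocallyNoetherian (x.hom ≫ T.hom)
  let f' := pullback.snd x.hom x.hom
  obtain ⟨hgc, hd, hg⟩ := family_props f' (fibres_of_isCurveOfGenus (isCurveOfGenus_baseChange x.hom hc))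
  let a := (ψ.app T x hT hx).left
  let b := T.hom ≫ (ψ.app (Over.mk (𝟙 _)) (Over.mk (CohB1.ProjSpace.toSpec 1 k)) hT₀ hx₀).left
  suffices h : x.hom ≫ a = x.hom ≫ b by
    haveI := Flat.epi_of_flat_of_surjective x.hom
    exact (cancel_epi x.hom).1 h
  choose R hR i hi hmem e he using locally_projSpace f' hgc hd hg (pullback.lift (𝟙 _) (𝟙 _) rfl) (pullback.lift_snd _ _ _)
  refine (Scheme.openCoverOfIsOpenCover x.left (fun s => (i s).opensRange)
    (IsOpenCover.mk (eq_top_iff.2 fun s _ => Opens.mem_iSup.2 ⟨s, hmem s⟩))).hom_ext _ _ fun s => ?_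
  letI := hR s
  haveI := hi s
  show (i s).opensRange.ι ≫ x.hom ≫ a = (i s).opensRange.ι ≫ x.hom ≫ b
  suffices h : i s ≫ x.hom ≫ a = i s ≫ x.hom ≫ b by
    rw [← Scheme.Hom.isoOpensRange_inv_comp (i s), Category.assoc, Category.assoc, h]
  let T' : Over (Spec (CommRingCat.of k)) := Over.mk (i s ≫ x.hom ≫ T.hom)
  let g : T' ⟶ T := Over.homMk (i s ≫ x.hom) (Category.assoc _ _ _)
  let g₀ : T' ⟶ Over.mk (𝟙 (Spec (CommRingCat.of k))) := Over.homMk (i s ≫ x.hom ≫ T.hom) (Category.comp_id _)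
  have hT' : LocallyOfFiniteType T'.hom ∧ QuasiCompact T'.hom :=
    ⟨inferInstanceAs (LocallyOfFiniteType (i s ≫ x.hom ≫ T.hom)), inferInstanceAs (QuasiCompact (i s ≫ x.hom ≫ T.hom))⟩
  have hok : (Mg (Spec (CommRingCat.of k)) 0).ok T' ((Mg (Spec (CommRingCat.of k)) 0).pull g x) :=
    ⟨trivial, isCurveOfGenus_baseChange g.left hc⟩
  have hok₀ : (Mg (Spec (CommRingCat.of k)) 0).ok T'
      ((Mg (Spec (CommRingCat.of k)) 0).pull g₀ (Over.mk (CohB1.ProjSpace.toSpec 1 k))) :=
    ⟨trivial, isCurveOfGenus_baseChange g₀.left hx₀.2⟩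
  have n1 := ψ.natural g x hT hT' hx hok
  have n0 := ψ.natural g₀ (Over.mk (CohB1.ProjSpace.toSpec 1 k)) hT₀ hT' hx₀ hok₀
  obtain ⟨e₀, he₀⟩ := exists_iso_pullback_projSpace 1 (i s ≫ x.hom ≫ T.hom)
  have hr : (Mg (Spec (CommRingCat.of k)) 0).r T' ((Mg (Spec (CommRingCat.of k)) 0).pull g x)
      ((Mg (Spec (CommRingCat.of k)) 0).pull g₀ (Over.mk (CohB1.ProjSpace.toSpec 1 k))) := by
    let ε : pullback x.hom (i s ≫ x.hom) ≅ pullback (CohB1.ProjSpace.toSpec 1 k) (i s ≫ x.hom ≫ T.hom) :=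
      (pullbackLeftPullbackSndIso x.hom x.hom (i s)).symm ≪≫ e s ≪≫ e₀
    refine ⟨Over.isoMk ε ?_⟩
    show ε.hom ≫ pullback.snd _ _ = pullback.snd x.hom (i s ≫ x.hom)
    simp only [ε, Iso.trans_hom, Category.assoc, he₀, he s, Iso.symm_hom]
    exact pullbackLeftPullbackSndIso_inv_snd_snd x.hom x.hom (i s)
  have hmain := congrArg CommaMorphism.left ((n1.symm.trans (ψ.resp _ _ hT' hok hok₀ hr)).trans n0)
  show i s ≫ x.hom ≫ a = i s ≫ x.hom ≫ T.hom ≫ _
  simpa [g, g₀, a, Category.assoc] using hmain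

open ModFun in
/-- The point is the coarse moduli space of curves of genus zero. -/
theorem coarse (k : Type u) [Field k] :
    ∃ φ : (Mg (Spec (CommRingCat.of k)) 0).Hom ⊤ (Over.mk (𝟙 (Spec (CommRingCat.of k)))),
      IsBestApprox (fun T : Over (Spec (CommRingCat.of k)) => LocallyOfFiniteType T.hom ∧ QuasiCompact T.hom)
          (Mg (Spec (CommRingCat.of k)) 0) (Over.mk (𝟙 (Spec (CommRingCat.of k)))) (φ.ofLE le_top) ∧
        GeomBij (Mg (Spec (CommRingCat.of k)) 0) (Over.mk (𝟙 (Spec (CommRingCat.of k)))) φ := by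
  have uniq : ∀ {T : Over (Spec (CommRingCat.of k))} (u v : T ⟶ Over.mk (𝟙 (Spec (CommRingCat.of k)))), u = v :=
    fun {T} u v => Over.OverMorphism.ext (by
      have hu := Over.w u
      have hv := Over.w v
      simp only [Over.mk_hom, Category.comp_id] at hu hv
      exact hu.trans hv.symm)
  refine ⟨{ app := fun T _ _ _ => Over.homMk T.hom (Category.comp_id _)
            natural := fun _ _ _ _ _ _ => uniq _ _
            resp := fun _ _ _ _ _ _ => rfl }, fun N ψ => ?_, fun Ω _ _ t _ => ⟨fun g => ?_, fun x y hx hy _ => ?_⟩⟩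
  · have hT₀ : LocallyOfFiniteType (𝟙 (Spec (CommRingCat.of k))) ∧ QuasiCompact (𝟙 (Spec (CommRingCat.of k))) :=
      ⟨inferInstance, inferInstance⟩
    have hx₀ : (Mg (Spec (CommRingCat.of k)) 0).ok (Over.mk (𝟙 _)) (Over.mk (CohB1.ProjSpace.toSpec 1 k)) :=
      ⟨trivial, isCurveOfGenus_line k⟩
    refine ⟨ψ.app _ _ hT₀ hx₀, fun T x hT hx => Over.OverMorphism.ext ?_, fun f hf => ?_⟩
    · exact app_eq k ψ T x hT hx hT₀ hx₀
    · refine Over.OverMorphism.ext ?_
      have h := congrArg CommaMorphism.left (hf _ _ hT₀ hx₀)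
      exact (h.trans (Category.id_comp _)).symm
  · exact ⟨Over.mk (CohB1.ProjSpace.toSpec 1 Ω), ⟨trivial, isCurveOfGenus_line Ω⟩, uniq _ _⟩
  · obtain ⟨ex, hex⟩ := exists_iso_line Ω x.hom hx.2
    obtain ⟨ey, hey⟩ := exists_iso_line Ω y.hom hy.2
    refine ⟨Over.isoMk (ex ≪≫ ey.symm) ?_⟩
    rw [Iso.trans_hom, Category.assoc, Iso.symm_hom]
    exact ((congrArg (ex.hom ≫ ·) ((Iso.inv_comp_eq ey).2 hey.symm)).trans hex)

end GrothLib.GenusZeroFam2
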