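import Groth.Agent.Lib.PBDeg17.OfUniv
import Groth.Agent.Lib.ProjLift21.Sec
import Groth.Agent.Lib.DegDet.Stalk

/-! # The projective bundle of a free module over an affine base -/

set_option autoImplicit false
set_option linter.all false
set_option backward.isDefEq.respectTransparency false

universe u

open CategoryTheory CategoryTheory.Limits AlgebraicGeometry Opposite TopologicalSpace

noncomputable section

namespace GrothLib.GenusZeroFam2

open GrothLib.Algz56 (pullSec_comp pullSec_natural inv_hom_app)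
open GrothLib.PBDeg (quotAlong)
open GrothLib.ProjLift21 (Cl)

variable {S T T' X : Scheme.{u}} {N : ℕ}

/-- The images of the standard sections under a map out of a pulled back free module. -/
def secs {g : T ⟶ S} {M : T.Modules} (φ : (Scheme.Modules.pullback g).obj (FlatMod.freeMod S N) ⟶ M)
    (i : Fin N) : ProjUP.Γm M :=
  φ.app ⊤ (ProjUP.pullSec g _ (DegDet.freeSec S N i))

theorem secs_ext {g : T ⟶ S} {M : T.Modules} {φ ψ : (Scheme.Modules.pullback g).obj (FlatMod.freeMod S N) ⟶ M}
    (h : ∀ i, secs φ i = secs ψ i) : φ = ψ := by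
  refine ((Scheme.Modules.pullbackPushforwardAdjunction g).homEquiv _ _).injective (Sigma.hom_ext _ _ fun i => ?_)
  refine OX.hom_ext_top _ _ ?_
  rw [Adjunction.homEquiv_unit, Adjunction.homEquiv_unit]
  exact h i

/-- The map out of a pulled back free module with prescribed sections. -/
def ofSecs (g : T ⟶ S) {M : T.Modules} (s : Fin N → ProjUP.Γm M) :
    (Scheme.Modules.pullback g).obj (FlatMod.freeMod S N) ⟶ M :=
  ((Scheme.Modules.pullbackPushforwardAdjunction g).homEquiv _ _).symm
    (Sigma.desc fun i => OX.ofTop (X := S) (N := (Scheme.Modules.pushforward g).obj M) (s i))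

theorem secs_ofSecs (g : T ⟶ S) {M : T.Modules} (s : Fin N → ProjUP.Γm M) (i : Fin N) :
    secs (ofSecs g s) i = s i := by
  have h := ((Scheme.Modules.pullbackPushforwardAdjunction g).homEquiv _ _).apply_symm_apply
    (Sigma.desc fun i => OX.ofTop (X := S) (N := (Scheme.Modules.pushforward g).obj M) (s i))
  rw [Adjunction.homEquiv_unit] at h
  have h2 := congrArg (fun ψ => (Sigma.ι (fun _ : Fin N => Coh.structureModule S) i ≫ ψ).app ⊤ (FinCov.one S ⊤)) h
  refine h2.trans ?_
  simp only [Sigma.ι_desc]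
  exact OX.ofTop_app_top (X := S) (N := (Scheme.Modules.pushforward g).obj M) (s i)

theorem secs_comp {g : T ⟶ S} {M M' : T.Modules} (φ : (Scheme.Modules.pullback g).obj (FlatMod.freeMod S N) ⟶ M)
    (k : M ⟶ M') (i : Fin N) : secs (φ ≫ k) i = k.app ⊤ (secs φ i) := rfl

theorem secs_quotAlong {π : X ⟶ S} {L : X.Modules}
    (q : (Scheme.Modules.pullback π).obj (FlatMod.freeMod S N) ⟶ L) (h : T ⟶ X) {g : T ⟶ S} (hg : h ≫ π = g)
    (i : Fin N) : secs (quotAlong (FlatMod.freeMod S N) q h hg) i = ProjUP.pullSec h L (secs q i) := by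
  subst hg
  show ((Scheme.Modules.pullback h).map q).app ⊤ (((Scheme.Modules.pullbackComp h π).inv.app _).app ⊤
    (((Scheme.Modules.pullbackCongr (rfl : h ≫ π = _)).inv.app _).app ⊤ _)) = _
  rw [show (Scheme.Modules.pullbackCongr (rfl : h ≫ π = h ≫ π)) = Iso.refl _ from by simp [Scheme.Modules.pullbackCongr]]
  show ((Scheme.Modules.pullback h).map q).app ⊤ (((Scheme.Modules.pullbackComp h π).inv.app _).app ⊤
    (ProjUP.pullSec (h ≫ π) _ (DegDet.freeSec S N i))) = _
  rw [← pullSec_comp h π]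
  refine (congrArg (fun z => ((Scheme.Modules.pullback h).map q).app ⊤ z)
    (inv_hom_app ((Scheme.Modules.pullbackComp h π).app (FlatMod.freeMod S N)) _)).trans ?_
  exact pullSec_natural h q _

/-- The standard sections generate the free module. -/
theorem generatedBy_freeSec (Y : Scheme.{u}) (N : ℕ) :
    ProjUP.GeneratedBy (FlatMod.freeMod Y N) (DegDet.freeSec Y N) := by
  intro y
  refine eq_top_iff.2 fun v _ => ?_
  obtain ⟨O, hy, z, rfl⟩ := TopCat.Presheaf.exists_germ_eq (FlatMod.freeMod Y N).presheaf v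
  obtain ⟨c, hc⟩ := (DegDet.isFrame_freeSec Y N O le_top).2 z
  rw [← hc, map_sum]
  refine Submodule.sum_mem _ fun i _ => ?_
  rw [WeakAss.germ_smul]
  refine Submodule.smul_mem _ _ (Submodule.subset_span ⟨i, ?_⟩)
  exact (TopCat.Presheaf.germ_res_apply (FlatMod.freeMod Y N).presheaf (homOfLE le_top) y hy _).symm

/-- A map out of a free module is epi exactly when the images of the standard sections generate. -/
theorem epi_iff_generatedBy {Y : Scheme.{u}} {M : Y.Modules} (φ : FlatMod.freeMod Y N ⟶ M) :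
    Epi φ ↔ ProjUP.GeneratedBy M (fun i => φ.app ⊤ (DegDet.freeSec Y N i)) := by
  rw [OX.epi_iff]
  constructor
  · intro h y
    have hs := (ModuleCat.epi_iff_surjective _).1 (h y)
    refine eq_top_iff.2 fun v _ => ?_
    obtain ⟨w, hw⟩ := hs v
    have hmem : w ∈ Submodule.span (Y.presheaf.stalk y)
        (Set.range fun i => (FlatMod.freeMod Y N).presheaf.germ ⊤ y trivial (DegDet.freeSec Y N i)) :=
      (generatedBy_freeSec Y N y).symm ▸ Submodule.mem_top
    have h1 := Submodule.mem_map_of_mem (f := QCoh.stalkLin φ y) hmem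
    rw [Submodule.map_span] at h1
    rw [show v = QCoh.stalkLin φ y w from hw.symm]
    refine Submodule.span_mono ?_ h1
    rintro _ ⟨_, ⟨i, rfl⟩, rfl⟩
    exact ⟨i, (QCoh.stalkLin_germ φ (U := ⊤) trivial _).symm⟩
  · intro h y
    rw [ModuleCat.epi_iff_surjective]
    intro v
    have hv : v ∈ LinearMap.range (QCoh.stalkLin φ y) := by
      refine (h y ▸ Submodule.span_le.2 ?_ : (⊤ : Submodule (Y.presheaf.stalk y) (M.presheaf.stalk y)) ≤ _) Submodule.mem_top
      rintro _ ⟨i, rfl⟩
      exact ⟨_, QCoh.stalkLin_germ φ (U := ⊤) trivial _⟩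
    exact hv

/-- A map out of a pulled back free module is epi exactly when its sections generate. -/
theorem epi_iff_generatedBy_secs {g : T ⟶ S} {M : T.Modules}
    (φ : (Scheme.Modules.pullback g).obj (FlatMod.freeMod S N) ⟶ M) :
    Epi φ ↔ ProjUP.GeneratedBy M (secs φ) := by
  let ε : FlatMod.freeMod T N ⟶ (Scheme.Modules.pullback g).obj (FlatMod.freeMod S N) :=
    Sigma.desc fun i => OX.ofTop (X := T) (ProjUP.pullSec g _ (DegDet.freeSec S N i))
  have hε : ∀ i, ε.app ⊤ (DegDet.freeSec T N i) = ProjUP.pullSec g _ (DegDet.freeSec S N i) := fun i => by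
    show (Sigma.ι (fun _ : Fin N => Coh.structureModule T) i ≫ ε).app ⊤ (FinCov.one T ⊤) = _
    rw [Sigma.ι_desc]
    exact OX.ofTop_app_top _
  haveI : Epi ε := ⟨fun a b hab => secs_ext fun i => by
    have h1 := congrArg (fun ψ => ψ.app ⊤ (DegDet.freeSec T N i)) hab
    change a.app ⊤ (ε.app ⊤ (DegDet.freeSec T N i)) = b.app ⊤ (ε.app ⊤ (DegDet.freeSec T N i)) at h1
    rw [hε i] at h1
    exact h1⟩
  have h := epi_iff_generatedBy (ε ≫ φ)
  have e : (fun i => (ε ≫ φ).app ⊤ (DegDet.freeSec T N i)) = secs φ := funext fun i => congrArg (φ.app ⊤) (hε i)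
  rw [e] at h
  exact ⟨fun hφ => h.1 inferInstance, fun hg => by haveI := h.2 hg; exact epi_of_epi ε φ⟩

/-- The projective bundle of a free module over an affine base is projective space. -/
theorem exists_iso_projSpace {R : Type u} [CommRing R] (n : ℕ) {f : X ⟶ Spec (CommRingCat.of R)}
    {L : X.Modules} {q : (Scheme.Modules.pullback f).obj (FlatMod.freeMod (Spec (CommRingCat.of R)) (n + 1)) ⟶ L}
    (hP : KRR.IsProjBundle f (FlatMod.freeMod (Spec (CommRingCat.of R)) (n + 1)) L q) :
    ∃ e : X ≅ CohB1.ProjSpace n R, e.hom ≫ CohB1.ProjSpace.toSpec n R = f := by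
  let F := FlatMod.freeMod (Spec (CommRingCat.of R)) (n + 1)
  let P := CohB1.ProjSpace n R
  let p := CohB1.ProjSpace.toSpec n R
  let O := Twist.twistProjSpace n R 1
  haveI := hP.epi
  obtain ⟨r, hr, τ, hτ⟩ := Algz56.exists_toProj (PBDeg.rankOne_iff.1 hP.invertible) (secs q)
    ((epi_iff_generatedBy_secs q).1 inferInstance) f
  have hclr : Cl r L (secs q) := ⟨τ, hτ⟩
  have hO : PicF.IsInvertible O :=
    (Ample.ProjMap.pcoc n R).isInvertible_of_iso (Ample.ProjMap.pcocIso n R)
  have hepi : Epi (ofSecs p (ProjUP.coord n R) : (Scheme.Modules.pullback p).obj F ⟶ O) := by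
    rw [epi_iff_generatedBy_secs, funext (secs_ofSecs p (ProjUP.coord n R))]
    exact Algz56.generatedBy_coord n R
  obtain ⟨h, ⟨hh, e, he⟩, -⟩ := hP.univ P p O (PBDeg.rankOne_iff.2 hO) (ofSecs p (ProjUP.coord n R)) hepi
  have he0 : quotAlong F q h hh ≫ e.hom = ofSecs p (ProjUP.coord n R) := by simpa [quotAlong] using he
  have hsec : ∀ i, e.hom.app ⊤ (ProjUP.pullSec h L (secs q i)) = ProjUP.coord n R i := fun i => by
    rw [← secs_quotAlong q h hh, ← secs_comp, he0, secs_ofSecs]
  have h1 : h ≫ r = 𝟙 P :=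
    ((hclr.comp h).of_iso e _ hsec).unique (Cl.id n R) (by rw [Category.assoc, hr, hh, Category.id_comp])
  have hw : (r ≫ h) ≫ f = f := by rw [Category.assoc, hh, hr]
  have h2 : r ≫ h = 𝟙 X := by
    refine (hP.univ X f L hP.invertible q hP.epi).unique ?_ ⟨Category.id_comp f, (Scheme.Modules.pullbackId X).app L,
      by simpa [quotAlong] using PBDeg.quotAlong_id F q (Category.id_comp f)⟩
    let e' : (Scheme.Modules.pullback (r ≫ h)).obj L ≅ L :=
      ((Scheme.Modules.pullbackComp r h).app L).symm ≪≫ (Scheme.Modules.pullback r).mapIso e ≪≫ τ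
    refine ⟨hw, e', ?_⟩
    have key : quotAlong F q (r ≫ h) hw ≫ e'.hom = q := secs_ext fun i => by
      rw [secs_comp, secs_quotAlong]
      show τ.hom.app ⊤ (((Scheme.Modules.pullback r).map e.hom).app ⊤
        (((Scheme.Modules.pullbackComp r h).inv.app L).app ⊤ (ProjUP.pullSec (r ≫ h) L (secs q i)))) = _
      rw [← pullSec_comp r h]
      refine (congrArg (fun z => τ.hom.app ⊤ (((Scheme.Modules.pullback r).map e.hom).app ⊤ z))
        (inv_hom_app ((Scheme.Modules.pullbackComp r h).app L) _)).trans ?_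
      refine (congrArg (fun z => τ.hom.app ⊤ z) (pullSec_natural r e.hom _)).trans ?_
      rw [hsec i]
      exact hτ i
    simpa [quotAlong] using key
  exact ⟨⟨r, h, h2, h1⟩, hr⟩

theorem iso_square {C : Type*} [Category C] {A B D E G : C} (a : B ⟶ A) [IsIso a] (b : B ≅ D)
    (c : D ⟶ E) (d : E ⟶ A) (h : inv a ≫ b.hom ≫ c ≫ d = 𝟙 A) (t : B ⟶ G) [IsIso c] [IsIso d] :
    inv c ≫ b.inv ≫ t = d ≫ inv a ≫ t := by
  have h2 : b.hom ≫ c ≫ d = a := by simpa using (IsIso.inv_comp_eq a).1 h
  subst h2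
  simp

/-- A pulled back quotient along a change of base, after a trivialisation. -/
theorem quotAlong_pre {B U Y W : Scheme.{u}} {b : U ⟶ B} {E : B.Modules} {F : U.Modules}
    (α : F ⟶ (Scheme.Modules.pullback b).obj E) {f' : Y ⟶ U} {O : Y.Modules}
    (t : (Scheme.Modules.pullback (f' ≫ b)).obj E ⟶ O) (h : W ⟶ Y) {g : W ⟶ U} (hg : h ≫ f' = g)
    (hg' : h ≫ f' ≫ b = g ≫ b) :
    quotAlong F ((Scheme.Modules.pullback f').map α ≫ (Scheme.Modules.pullbackComp f' b).hom.app E ≫ t) h hg =
      (Scheme.Modules.pullback g).map α ≫ (Scheme.Modules.pullbackComp g b).hom.app E ≫ quotAlong E t h hg' := by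
  subst hg
  have h0 := congr_app (Scheme.Modules.pseudofunctor_associativity h f' b) E
  simp [Scheme.Modules.pullbackCongr, PBDeg.quotAlong] at h0 ⊢
  have hn := (Scheme.Modules.pullbackComp h f').inv.naturality α
  simp only [Functor.comp_map] at hn
  rw [← reassoc_of% hn]
  refine congrArg (fun z => (Scheme.Modules.pullback (h ≫ f')).map α ≫ z) ?_
  have key := iso_square ((Scheme.Modules.pullbackComp h (f' ≫ b)).hom.app E)
    ((Scheme.Modules.pullback h).mapIso ((Scheme.Modules.pullbackComp f' b).app E)).symm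
    ((Scheme.Modules.pullbackComp h f').hom.app ((Scheme.Modules.pullback b).obj E))
    ((Scheme.Modules.pullbackComp (h ≫ f') b).hom.app E) (by simpa using h0)
    ((Scheme.Modules.pullback h).map t)
  erw [Category.id_comp]
  simpa using key

/-- A projective bundle is projective space over an affine open trivialising the module. -/
theorem exists_iso_projSpace_restrict {B : Scheme.{u}} {R : Type u} [CommRing R] (n : ℕ) {π : X ⟶ B}
    {E : B.Modules} {O1 : X.Modules} {q : (Scheme.Modules.pullback π).obj E ⟶ O1}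
    (hP : KRR.IsProjBundle π E O1 q) (i : Spec (CommRingCat.of R) ⟶ B)
    (φ : (Scheme.Modules.pullback i).obj E ≅ FlatMod.freeMod (Spec (CommRingCat.of R)) (n + 1)) :
    ∃ e : pullback π i ≅ CohB1.ProjSpace n R, e.hom ≫ CohB1.ProjSpace.toSpec n R = pullback.snd π i := by
  let F := FlatMod.freeMod (Spec (CommRingCat.of R)) (n + 1)
  let pr := pullback.fst π i
  let f' := pullback.snd π i
  have hsq : pr ≫ π = f' ≫ i := pullback.condition
  let t := quotAlong E q pr hsq
  let O' := (Scheme.Modules.pullback pr).obj O1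
  let q' : (Scheme.Modules.pullback f').obj F ⟶ O' :=
    (Scheme.Modules.pullback f').map φ.inv ≫ (Scheme.Modules.pullbackComp f' i).hom.app E ≫ t
  have hinv : FlatMod.IsFinLocFreeOfRank 1 O' :=
    PBDeg.rankOne_iff.2 (Ample.isInvertible_pullback pr (PBDeg.rankOne_iff.1 hP.invertible))
  haveI := hP.epi
  haveI : Epi q' := by
    haveI := Functor.preservesEpimorphisms_of_adjunction (Scheme.Modules.pullbackPushforwardAdjunction pr)
    haveI : Epi ((Scheme.Modules.pullback pr).map q) := inferInstance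
    dsimp only [q', t, PBDeg.quotAlong]
    infer_instance
  refine exists_iso_projSpace n (q := q') ⟨hinv, inferInstance, fun W g M hM s hs => ?_⟩
  haveI := hs
  let Φ := (Scheme.Modules.pullback g).map φ.inv ≫ (Scheme.Modules.pullbackComp g i).hom.app E
  haveI : IsIso Φ := inferInstance
  obtain ⟨h0, ⟨hh0, e, he⟩, huniq⟩ := hP.univ W (g ≫ i) M hM (inv Φ ≫ s) inferInstance
  have he0 : quotAlong E q h0 hh0 ≫ e.hom = inv Φ ≫ s := by simpa [PBDeg.quotAlong] using he
  let h := pullback.lift h0 g hh0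
  have hh1 : h ≫ pr = h0 := pullback.lift_fst _ _ _
  have hh2 : h ≫ f' = g := pullback.lift_snd _ _ _
  have hstep : ∀ (h : W ⟶ pullback π i) (hg : h ≫ f' = g) (hw : (h ≫ pr) ≫ π = g ≫ i),
      quotAlong F q' h hg = Φ ≫ quotAlong E q (h ≫ pr) hw ≫ (Scheme.Modules.pullbackComp h pr).inv.app O1 := by
    intro h hg hw
    have hg' : h ≫ f' ≫ i = g ≫ i := by rw [← Category.assoc, hg]
    rw [PBDeg.quotAlong_comp E q pr h hsq hg' hw, quotAlong_pre φ.inv t h hg hg']
    simp [Φ, t]
  refine ⟨h, ⟨hh2, ?_⟩, fun h' hh' => ?_⟩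
  · have hw : (h ≫ pr) ≫ π = g ≫ i := by rw [hh1, hh0]
    let e' : (Scheme.Modules.pullback h).obj O' ≅ M :=
      (Scheme.Modules.pullbackComp h pr).app O1 ≪≫ (Scheme.Modules.pullbackCongr hh1).app O1 ≪≫ e
    refine ⟨e', ?_⟩
    have key : quotAlong F q' h hh2 ≫ e'.hom = s := by
      rw [hstep h hh2 hw]
      simp only [e', Iso.trans_hom, Iso.app_hom, Category.assoc, Iso.inv_hom_id_app_assoc]
      have hc : ∀ (a : W ⟶ X) (ha : a ≫ π = g ≫ i) (heq : a = h0),
          quotAlong E q a ha ≫ (Scheme.Modules.pullbackCongr heq).hom.app O1 = quotAlong E q h0 hh0 := by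
        intro a ha heq
        subst heq
        simp [Scheme.Modules.pullbackCongr]
      rw [reassoc_of% (hc (h ≫ pr) hw hh1), he0, IsIso.hom_inv_id_assoc]
    simpa [PBDeg.quotAlong] using key
  · obtain ⟨hg, e', he'⟩ := hh'
    have hw : (h' ≫ pr) ≫ π = g ≫ i := by rw [Category.assoc, hsq, ← Category.assoc, hg]
    have he1 : quotAlong F q' h' hg ≫ e'.hom = s := by simpa [PBDeg.quotAlong] using he'
    rw [hstep h' hg hw] at he1
    have h1 : h' ≫ pr = h0 := by
      refine huniq _ ⟨hw, ((Scheme.Modules.pullbackComp h' pr).app O1).symm ≪≫ e', ?_⟩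
      have key : quotAlong E q (h' ≫ pr) hw ≫ ((Scheme.Modules.pullbackComp h' pr).inv.app O1) ≫ e'.hom = inv Φ ≫ s := by
        rw [IsIso.eq_inv_comp, ← he1]
        simp [Category.assoc]
      simpa [PBDeg.quotAlong] using key
    refine pullback.hom_ext ?_ ?_
    · exact h1.trans hh1.symm
    · exact hg.trans hh2.symm

end GrothLib.GenusZeroFam2
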