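import Groth.Agent.Lib.GenusZeroFam2.FreeBundle
import Groth.Agent.Lib.Sect28.P1Fam

/-! # Families of genus zero -/

set_option autoImplicit false
set_option linter.all false
set_option backward.isDefEq.respectTransparency false
set_option maxHeartbeats 1000000

universe u

open CategoryTheory CategoryTheory.Limits AlgebraicGeometry TopologicalSpace Opposite

noncomputable section

namespace GrothLib.GenusZeroFam2

variable {X S : Scheme.{u}} (f : X ⟶ S) [IsProper f]

theorem family_props
    (hfib : ∀ (K : Type u) [Field K] [IsAlgClosed K] (x : Spec (CommRingCat.of K) ⟶ S),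
      IsIntegral (pullback f x) ∧ topologicalKrullDim ↥(pullback f x) = 1 ∧
        @Curv2.genus K _ (pullback f x) ⟨pullback.snd f x⟩ = 0) :
    GeometricallyConnected f ∧ (∀ y, topologicalKrullDim (f.fiber y) = 1) ∧
      ∀ y, Subsingleton (Coh.HH (f.fiber y) (Coh.structureModule (f.fiber y)) 1) := by
  refine ⟨DescentHom.geometricallyConnected_of_geomPt f fun s => ?_, fun y => ?_, fun y => ?_⟩
  · obtain ⟨h, -, -⟩ := hfib _ (Red.geomPt s)
    haveI := h
    infer_instance
  all_goals
    let Ω := AlgebraicClosure (S.residueField y)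
    let g := Spec.map (CommRingCat.ofHom (algebraMap (S.residueField y) Ω))
    obtain ⟨hi, hdim, hg⟩ := hfib Ω (g ≫ S.fromSpecResidueField y)
    haveI : IsProper (f.fiberToSpecResidueField y) := MorphismProperty.pullback_snd f _ inferInstance
    let e' : pullback (f.fiberToSpecResidueField y) g ≅ pullback f (g ≫ S.fromSpecResidueField y) :=
      pullbackLeftPullbackSndIso f (S.fromSpecResidueField y) g
  · rw [← CurveLocus.topologicalKrullDim_pullback (k := (S.residueField y : Type u)) (f.fiberToSpecResidueField y) Ω]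
    exact ((Scheme.homeoOfIso (pullbackSymmetry g (f.fiberToSpecResidueField y) ≪≫ e')).isHomeomorph.topologicalKrullDim_eq).trans
      hdim
  · letI : (f.fiber y).Over (Spec (CommRingCat.of (S.residueField y))) := ⟨f.fiberToSpecResidueField y⟩
    haveI : IsProper (f.fiber y ↘ Spec (CommRingCat.of (S.residueField y))) := ‹IsProper (f.fiberToSpecResidueField y)›
    haveI := Euler.finiteDimensional_HH (X := f.fiber y) (S.residueField y)
      (Euler.isCoh_of_isInvertible Euler.isInvertible_structure) 1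
    letI : (pullback f (g ≫ S.fromSpecResidueField y)).Over (Spec (CommRingCat.of Ω)) := ⟨pullback.snd _ _⟩
    refine Module.finrank_zero_iff.1 ((CurveMult.finrank_HH_structure_baseChange (algebraMap (S.residueField y) Ω)
      (X := f.fiber y) (X' := pullback f (g ≫ S.fromSpecResidueField y)) (e'.inv ≫ pullback.fst _ _) ?_ 1).symm.trans hg)
    have h2 : e'.inv ≫ pullback.snd (f.fiberToSpecResidueField y) g = pullback.snd f (g ≫ S.fromSpecResidueField y) :=
      pullbackLeftPullbackSndIso_inv_snd_snd f (S.fromSpecResidueField y) g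
    refine IsPullback.of_iso_pullback ⟨?_⟩ e'.symm rfl h2
    show (e'.inv ≫ pullback.fst _ _) ≫ f.fiberToSpecResidueField y = pullback.snd _ _ ≫ g
    rw [Category.assoc, pullback.condition, ← Category.assoc, h2]

theorem locally_projSpace [Smooth f] (hgc : GeometricallyConnected f)
    (hd : ∀ y, topologicalKrullDim (f.fiber y) = 1)
    (hg : ∀ y, Subsingleton (Coh.HH (f.fiber y) (Coh.structureModule (f.fiber y)) 1))
    (σ : S ⟶ X) (hσ : σ ≫ f = 𝟙 S) (s : S) :
    ∃ (R : Type u) (_ : CommRing R) (i : Spec (CommRingCat.of R) ⟶ S), IsOpenImmersion i ∧ s ∈ Set.range i.base ∧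
      ∃ e : pullback f i ≅ CohB1.ProjSpace 1 R, e.hom ≫ CohB1.ProjSpace.toSpec 1 R = pullback.snd f i := by
  haveI := hgc
  have hI : PicF.IsInvertible (ClSub.idealMod σ.ker) :=
    IdealModSec.isInvertible_of_isEffCartier (SmCurveFam.isEffCartier_section f hd σ hσ)
  obtain ⟨L, hL, hcls⟩ := LefPic7.exists_rep ((Cube.clsMod hI)⁻¹)
  have hinv : ClSub.IsInverseOf L (ClSub.idealMod σ.ker) :=
    (Cube.clsMod_eq_one_iff (Ample.isInvertible_tensorMod hL hI)).1
      ((Cube.clsMod_tensorMod hL hI).trans (by rw [hcls, inv_mul_cancel]))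
  obtain ⟨E, q, hE, hP⟩ := Sect28.exists_bundle_of_deg_one f hd hg hL fun y =>
    SmCurveFam.deg_fibre_eq_one f hd σ hσ hI hL hinv y
  obtain ⟨U, hs, ⟨φ⟩⟩ := hE s
  obtain ⟨W, hW, hsW, hWU⟩ := exists_isAffineOpen_mem_and_subset hs
  let i : Spec (CommRingCat.of Γ(S, W)) ⟶ S := hW.fromSpec
  have hrange : Set.range i ⊆ Set.range U.ι := by
    rw [Scheme.Opens.range_ι]
    exact hW.range_fromSpec.le.trans hWU
  let j : Spec (CommRingCat.of Γ(S, W)) ⟶ (U : Scheme.{u}) := IsOpenImmersion.lift U.ι i hrange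
  have hj : j ≫ U.ι = i := IsOpenImmersion.lift_fac _ _ _
  let ψ : (Scheme.Modules.pullback i).obj E ≅ FlatMod.freeMod (Spec (CommRingCat.of Γ(S, W))) 2 :=
    (Scheme.Modules.pullbackCongr hj.symm).app E ≪≫ ((Scheme.Modules.pullbackComp j U.ι).app E).symm ≪≫
      (Scheme.Modules.pullback j).mapIso (((Scheme.Modules.restrictFunctorIsoPullback U.ι).app E).symm ≪≫ φ) ≪≫
      OX.pullFreeModIso j 2
  exact ⟨Γ(S, W), inferInstance, i, inferInstanceAs (IsOpenImmersion hW.fromSpec), hW.range_fromSpec.ge hsW,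
    exists_iso_projSpace_restrict 1 hP i ψ⟩

end GrothLib.GenusZeroFam2
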